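import Groth.Agent.Lib.GoodFinType28.Reynolds
import Groth.Agent.Lib.GoodFinType28.Tensor
import Mathlib.RingTheory.FiniteStability

/-!
An equivariant Noetherian algebra is of finite type over its invariants.
-/

open TensorProduct HopfRep Groth.Agent.Comodule Groth.Agent.FinGenH28
open scoped Polynomial

universe u v w x

namespace Groth.Agent.GoodFinType28

set_option linter.style.haveILetI false

section Mul

variable {k : Type u} [Field k] {H : Type v} [CommRing H] [HopfAlgebra k H]
variable {R : Type x} [CommRing R] [Algebra k R] [Comod k H R] [GLin.IsCoactAlg k H R]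

/-- The Reynolds operator is linear over the invariants. -/
theorem reynolds_mul_invariant (hG : IsLinearlyReductive k H) {E : R →ₗ[k] R}
    (hE : IsReyn (A := H) E) (r : R) {f : R} (hf : f ∈ GLin.invariants k H R) : E (r * f) = E r * f := by
  have hmul : Hoch.IsComodHom H (LinearMap.mulRight k f) := LinearMap.ext fun x => by
    show Comod.coact (k := k) (A := H) (x * f) = (LinearMap.mulRight k f).rTensor H (Comod.coact (k := k) (A := H) x)
    rw [GLin.IsCoactAlg.coact_mul, show Comod.coact (k := k) (A := H) f = f ⊗ₜ[k] (1 : H) from hf]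
    generalize Comod.coact (k := k) (A := H) x = z
    induction z with
    | zero => simp
    | add p q hp hq => simp only [add_mul, map_add, hp, hq]
    | tmul y a => simp
  exact LinearMap.congr_fun (comp_comm hG hE hE hmul) r

end Mul

section Main

variable {k : Type u} [Field k] {H : Type v} [CommRing H] [HopfAlgebra k H]

/-- **Hilbert**: invariants of a finitely generated equivariant algebra over a Noetherian algebra are
finitely generated over the invariants. -/
theorem exists_finset_invariants_eq (hG : IsLinearlyReductive k H)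
    {A : Type w} [CommRing A] [Algebra k A] [IsNoetherianRing A] [Comod k H A] [GLin.IsCoactAlg k H A]
    {C : Type x} [CommRing C] [Algebra k C] [Comod k H C] [GLin.IsCoactAlg k H C]
    [Algebra A C] [IsScalarTower k A C] [Algebra.FiniteType A C]
    (hAC : Hoch.IsComodHom H (IsScalarTower.toAlgHom k A C).toLinearMap) :
    ∃ s : Finset C, GLin.invariants k H C =
      Algebra.adjoin k (⇑(algebraMap A C) '' ↑(GLin.invariants k H A) ∪ ↑s) := by
  classical
  obtain ⟨gen, hgen⟩ := Algebra.FiniteType.out (R := A) (A := C)
  obtain ⟨W, hW, hWfin, hgW⟩ := exists_finite_subcomod_finset (k := k) (A := H) gen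
  obtain ⟨t, ht⟩ := (Module.Finite.iff_fg.1 hWfin)
  let V : Submodule k C := W ⊔ Submodule.span k {1}
  have hV : IsSubcomod (k := k) (A := H) V := isSubcomod_sup hW isSubcomod_span_one
  have hV1 : (1 : C) ∈ V := Submodule.mem_sup_right (Submodule.mem_span_singleton_self 1)
  let B : Submodule k C := LinearMap.range (IsScalarTower.toAlgHom k A C).toLinearMap
  have hBmem : ∀ a, algebraMap A C a ∈ B := fun a => ⟨a, rfl⟩
  have hB : IsSubcomod (k := k) (A := H) B := by
    have := isSubcomod_map hAC (N := (⊤ : Submodule k A))
      (fun a _ => by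
        show Comod.coact (k := k) (A := H) a ∈ tens H ⊤
        have : tens H (⊤ : Submodule k A) = ⊤ := by
          refine eq_top_iff.2 fun x hx => ?_
          clear hx
          induction x with
          | zero => exact zero_mem _
          | tmul m n => exact tmul_mem_tens Submodule.mem_top _
          | add p q hp hq => exact add_mem hp hq
        rw [this]; trivial)
    rwa [Submodule.map_top] at this
  have hBB : B * B ≤ B := Submodule.mul_le.2 fun _ ⟨a, ha⟩ _ ⟨b, hb⟩ => ⟨a * b, by
    subst ha; subst hb; exact map_mul (IsScalarTower.toAlgHom k A C) a b⟩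
  let F : ℕ → Submodule k C := fun n => B * V ^ n
  have hF : ∀ n, IsSubcomod (k := k) (A := H) (F n) := fun n => isSubcomod_mul hB (isSubcomod_pow hV n)
  have hB1 : (1 : C) ∈ B := ⟨1, map_one (IsScalarTower.toAlgHom k A C)⟩
  have hVpow : ∀ (n : ℕ), (1 : C) ∈ V ^ n := by
    intro n
    induction n with
    | zero => rw [pow_zero]; exact Submodule.one_le.1 le_rfl
    | succ n ih => rw [pow_succ, ← one_mul (1 : C)]; exact Submodule.mul_mem_mul ih hV1
  have hF0 : ∀ a, algebraMap A C a ∈ F 0 := fun a => by
    rw [← mul_one (algebraMap A C a)]; exact Submodule.mul_mem_mul (hBmem a) (hVpow 0)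
  have hFmul : ∀ a b {x y : C}, x ∈ F a → y ∈ F b → x * y ∈ F (a + b) := by
    intro a b x y hx hy
    have h1 : x * y ∈ F a * F b := Submodule.mul_mem_mul hx hy
    have h2 : F a * F b = (B * B) * V ^ (a + b) := by rw [pow_add, mul_mul_mul_comm]
    rw [h2] at h1
    exact mul_le_mul' hBB (le_refl (V ^ (a + b))) h1
  have hF1 : ∀ x ∈ V, x ∈ F 1 := fun x hx => by
    rw [← one_mul x]; exact Submodule.mul_mem_mul hB1 (by rwa [pow_one])
  have hFmono : ∀ a b, a ≤ b → F a ≤ F b := by
    intro a b hab x hx
    obtain ⟨c, rfl⟩ := Nat.exists_eq_add_of_le hab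
    induction c with
    | zero => exact hx
    | succ c ih => rw [← mul_one x, ← Nat.add_assoc]; exact hFmul _ 1 (ih (by omega)) (hF1 1 hV1)
  have hexh : ∀ c : C, ∃ n, c ∈ F n := by
    intro c
    have hc : c ∈ Algebra.adjoin A (gen : Set C) := by rw [hgen]; trivial
    induction hc using Algebra.adjoin_induction with
    | mem x hx => exact ⟨1, hF1 x (Submodule.mem_sup_left (hgW hx))⟩
    | algebraMap a => exact ⟨0, hF0 a⟩
    | add x y _ _ hx hy =>
      obtain ⟨a, ha⟩ := hx
      obtain ⟨b, hb⟩ := hy
      exact ⟨max a b, add_mem (hFmono a _ (le_max_left _ _) ha) (hFmono b _ (le_max_right _ _) hb)⟩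
    | mul x y _ _ hx hy =>
      obtain ⟨a, ha⟩ := hx
      obtain ⟨b, hb⟩ := hy
      exact ⟨a + b, hFmul a b ha hb⟩
  -- the Rees algebra
  let G : Finset C[X] := insert Polynomial.X (t.image (Polynomial.monomial 1))
  let Rees : Subalgebra A C[X] := Algebra.adjoin A (G : Set C[X])
  haveI : Algebra.FiniteType A Rees :=
    (Subalgebra.fg_iff_finiteType _).1 ⟨G, rfl⟩
  haveI : IsNoetherianRing Rees := Algebra.FiniteType.isNoetherianRing A Rees
  have hcoeff : ∀ p ∈ Rees, ∀ n, Polynomial.coeff p n ∈ F n := by
    intro p hp
    induction hp using Algebra.adjoin_induction with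
    | mem x hx =>
      intro n
      rcases Finset.mem_insert.1 (Finset.mem_coe.1 hx) with rfl | hx
      · rw [Polynomial.coeff_X]
        split_ifs with h
        · subst h; exact hF1 1 hV1
        · exact zero_mem _
      · obtain ⟨w, hw, rfl⟩ := Finset.mem_image.1 hx
        rw [Polynomial.coeff_monomial]
        split_ifs with h
        · subst h; exact hF1 w (Submodule.mem_sup_left (ht ▸ Submodule.subset_span hw))
        · exact zero_mem _
    | algebraMap a =>
      intro n
      rw [Polynomial.algebraMap_apply, Polynomial.coeff_C]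
      split_ifs with h
      · subst h; exact hF0 a
      · exact zero_mem _
    | add x y _ _ hx hy => intro n; rw [Polynomial.coeff_add]; exact add_mem (hx n) (hy n)
    | mul x y _ _ hx hy =>
      intro n
      rw [Polynomial.coeff_mul]
      refine sum_mem fun ij hij => ?_
      rw [← (Finset.mem_antidiagonal.1 hij)]
      exact hFmul _ _ (hx _) (hy _)
  let S : ℕ → Submodule k C := fun n =>
    (Rees.toSubmodule.restrictScalars k).comap ((Polynomial.monomial n).restrictScalars k)
  have hSmul : ∀ a b, S a * S b ≤ S (a + b) := fun a b => Submodule.mul_le.2 fun x hx y hy => by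
    show Polynomial.monomial (a + b) (x * y) ∈ Rees
    rw [← Polynomial.monomial_mul_monomial]
    exact mul_mem hx hy
  have hS0 : B ≤ S 0 := by
    rintro _ ⟨a, rfl⟩
    show Polynomial.monomial 0 (algebraMap A C a) ∈ Rees
    rw [Polynomial.monomial_zero_left, ← Polynomial.algebraMap_apply]
    exact Rees.algebraMap_mem a
  have hS1 : V ≤ S 1 := by
    refine sup_le ?_ ?_
    · rw [← ht]
      refine Submodule.span_le.2 fun x hx => ?_
      exact Algebra.subset_adjoin (Finset.mem_insert_of_mem (Finset.mem_image_of_mem _ hx))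
    · refine Submodule.span_le.2 ?_
      rintro _ rfl
      show Polynomial.monomial 1 (1 : C) ∈ Rees
      rw [Polynomial.monomial_one_one_eq_X]
      exact Algebra.subset_adjoin (Finset.mem_insert_self _ _)
  have hSpow : ∀ n, V ^ n ≤ S n := by
    intro n
    induction n with
    | zero =>
      rw [pow_zero]
      refine fun x hx => hS0 ?_
      obtain ⟨c, rfl⟩ := Submodule.mem_one.1 hx
      exact ⟨algebraMap k A c, by simp⟩
    | succ n ih => rw [pow_succ]; exact (mul_le_mul' ih hS1).trans (hSmul n 1)
  have hFS : ∀ n, F n ≤ S n := fun n =>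
    (mul_le_mul' hS0 (hSpow n)).trans ((hSmul 0 n).trans (le_of_eq (by rw [zero_add])))
  -- homogeneous invariants of positive degree
  let Pos : Set Rees := {p | ∃ d f, 0 < d ∧ f ∈ F d ∧ f ∈ GLin.invariants k H C ∧
    (p : C[X]) = Polynomial.monomial d f}
  obtain ⟨T, hT, hTspan⟩ := Submodule.fg_span_iff_fg_span_finset_subset Pos |>.1
    (IsNoetherian.noetherian (Submodule.span Rees Pos))
  choose d f hd hf hfi hp using fun p : T => hT p.2
  refine ⟨Finset.univ.image f, le_antisymm ?_ ?_⟩
  · obtain ⟨EA, hEA⟩ := GoodFinType28.exists_reynolds (V := A) (A := H) hG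
    obtain ⟨EC, hEC⟩ := GoodFinType28.exists_reynolds (V := C) (A := H) hG
    suffices ∀ n, ∀ c ∈ F n, c ∈ GLin.invariants k H C →
        c ∈ Algebra.adjoin k (⇑(algebraMap A C) '' ↑(GLin.invariants k H A) ∪ ↑(Finset.univ.image f)) from
      fun c hc => let ⟨n, hn⟩ := hexh c; this n c hn hc
    intro n
    induction n using Nat.strong_induction_on with
    | _ n ih =>
      intro c hc hci
      rcases Nat.eq_zero_or_pos n with rfl | hn
      · obtain ⟨a, ha⟩ : c ∈ B := by
          rwa [show F 0 = B by simp [F]] at hc
        refine Algebra.subset_adjoin (Or.inl ⟨EA a, (reynolds_mem hEA a), ?_⟩)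
        have h := LinearMap.congr_fun (GoodFinType28.comp_comm hG hEA hEC hAC) a
        simp only [LinearMap.comp_apply] at h
        rw [ha, (hEC.fix c).2 hci] at h
        exact h.symm
      · let p : Rees := ⟨Polynomial.monomial n c, hFS n hc⟩
        have hpP : p ∈ Submodule.span Rees (T : Set Rees) :=
          hTspan ▸ Submodule.subset_span ⟨n, c, hn, hc, hci, rfl⟩
        obtain ⟨q, -, hq⟩ := Submodule.mem_span_finset.1 hpP
        have hq' := congrArg (fun x : Rees => Polynomial.coeff (x : C[X]) n) hq
        simp only [AddSubmonoidClass.coe_finsetSum, smul_eq_mul, MulMemClass.coe_mul,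
          Polynomial.finsetSum_coeff, p, Polynomial.coeff_monomial, if_true] at hq'
        have hEq := congrArg EC hq'
        rw [map_sum, (hEC.fix c).2 hci] at hEq
        rw [← hEq]
        refine sum_mem fun x hx => ?_
        rw [hp ⟨x, hx⟩, ← Polynomial.C_mul_X_pow_eq_monomial, ← mul_assoc, Polynomial.coeff_mul_X_pow']
        split_ifs with hle
        · rw [Polynomial.coeff_mul_C, reynolds_mul_invariant hG hEC _ (hfi _)]
          refine mul_mem (ih _ (Nat.sub_lt hn (hd ⟨x, hx⟩)) _ ?_ (reynolds_mem hEC _))
            (Algebra.subset_adjoin (Or.inr (Finset.mem_image_of_mem _ (Finset.mem_univ _))))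
          exact GoodFinType28.apply_mem hG hEC (hF _) (hcoeff _ (q x).2 _)
        · rw [map_zero]; exact zero_mem _
  · refine Algebra.adjoin_le (Set.union_subset ?_ ?_)
    · rintro _ ⟨a, ha, rfl⟩
      have h := LinearMap.congr_fun hAC a
      simp only [LinearMap.comp_apply] at h
      rw [show Comod.coact (k := k) (A := H) a = a ⊗ₜ[k] (1 : H) from ha, LinearMap.rTensor_tmul] at h
      exact h
    · intro x hx
      obtain ⟨p, -, rfl⟩ := Finset.mem_image.1 (Finset.mem_coe.1 hx)
      exact hfi p

end Main

section Result

variable {k : Type u} [Field k] {H : Type v} [CommRing H] [HopfAlgebra k H]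

section Antipode

variable {A : Type w} [CommRing A] [Algebra k A] [Comod k H A] [GLin.IsCoactAlg k H A]
  (hA : ∀ c, algebraMap k A c ∈ GLin.invariants k H A)
  (hH : letI := Comod.regular (k := k) (A := H); letI : GLin.IsCoactAlg k H H := ⟨Bialgebra.comul_one, Bialgebra.comul_mul⟩
    ∀ c, algebraMap k H c ∈ GLin.invariants k H H)

variable (k H A) in
/-- `b ⊗ h ↦ b₍₀₎ ⊗ b₍₁₎ h`. -/
noncomputable def shear : A ⊗[k] H →ₐ[k] A ⊗[k] H :=
  Algebra.TensorProduct.lift (GLin.coactAlgHom k H A) Algebra.TensorProduct.includeRight
    fun _ _ => Commute.all _ _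

variable (k H A) in
/-- The antipode as an algebra map. -/
noncomputable def unshear : A ⊗[k] H →ₐ[k] A ⊗[k] H :=
  Algebra.TensorProduct.lift
    ((Algebra.TensorProduct.map (AlgHom.id k A) (HopfAlgebra.antipodeAlgHom k H)).comp (GLin.coactAlgHom k H A))
    Algebra.TensorProduct.includeRight fun _ _ => Commute.all _ _

theorem antipode_twist (F : H →ₗ[k] H) (G : H ⊗[k] H →ₗ[k] H)
    (hFG : ∀ h, G (CoalgebraStruct.comul (R := k) (A := H) h) = algebraMap k H (CoalgebraStruct.counit (R := k) (A := H) h))
    (T : A ⊗[k] H →ₗ[k] A ⊗[k] H)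
    (hT : ∀ b h, T (b ⊗ₜ h) = G.lTensor A (TensorProduct.assoc k A H H (Comod.coact (k := k) (A := H) b ⊗ₜ h)))
    (a : A) : T (Comod.coact (k := k) (A := H) a) = a ⊗ₜ[k] (1 : H) := by
  have e : ∀ z : A ⊗[k] H, T z =
      G.lTensor A (TensorProduct.assoc k A H H ((Comod.coact (k := k) (A := H)).rTensor H z)) := by
    intro z
    induction z with
    | zero => simp
    | add p q hp hq => simp only [map_add, hp, hq]
    | tmul b h => rw [hT, LinearMap.rTensor_tmul]
  have h := LinearMap.congr_fun (Comod.coassoc (k := k) (A := H) (V := A)) a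
  simp only [LinearMap.comp_apply, LinearEquiv.coe_coe] at h
  rw [e, h, ← LinearMap.lTensor_comp_apply]
  have hc := LinearMap.congr_fun (Comod.counit_comp (k := k) (A := H) (V := A)) a
  simp only [LinearMap.comp_apply, LinearMap.flip_apply, TensorProduct.mk_apply] at hc
  rw [show G ∘ₗ CoalgebraStruct.comul = (Algebra.linearMap k H) ∘ₗ CoalgebraStruct.counit from LinearMap.ext hFG,
    LinearMap.lTensor_comp_apply, hc]
  simp

theorem shear_antipode (a : A) :
    shear k H A ((HopfAlgebraStruct.antipode k (A := H)).lTensor A (Comod.coact (k := k) (A := H) a)) = a ⊗ₜ[k] (1 : H) :=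
  antipode_twist LinearMap.id
    (LinearMap.mul' k H ∘ₗ (HopfAlgebraStruct.antipode k (A := H)).lTensor H)
    (fun h => HopfAlgebra.mul_antipode_lTensor_comul_apply h)
    ((shear k H A).toLinearMap ∘ₗ (HopfAlgebraStruct.antipode k (A := H)).lTensor A)
    (fun b h => by
      simp only [LinearMap.comp_apply, LinearMap.lTensor_tmul, AlgHom.toLinearMap_apply, shear,
        Algebra.TensorProduct.lift_tmul, Algebra.TensorProduct.includeRight_apply]
      show Comod.coact (k := k) (A := H) b * _ = _
      generalize Comod.coact (k := k) (A := H) b = d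
      induction d with
      | zero => simp
      | add p q hp hq => simp only [map_add, add_tmul, add_mul, hp, hq]
      | tmul s c => simp) a

theorem unshear_coact (a : A) : unshear k H A (Comod.coact (k := k) (A := H) a) = a ⊗ₜ[k] (1 : H) :=
  antipode_twist LinearMap.id
    (LinearMap.mul' k H ∘ₗ (HopfAlgebraStruct.antipode k (A := H)).rTensor H)
    (fun h => HopfAlgebra.mul_antipode_rTensor_comul_apply h)
    (unshear k H A).toLinearMap
    (fun b h => by
      simp only [AlgHom.toLinearMap_apply, unshear, Algebra.TensorProduct.lift_tmul,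
        Algebra.TensorProduct.includeRight_apply, AlgHom.comp_apply]
      show Algebra.TensorProduct.map (AlgHom.id k A) (HopfAlgebra.antipodeAlgHom k H)
        (Comod.coact (k := k) (A := H) b) * _ = _
      generalize Comod.coact (k := k) (A := H) b = d
      induction d with
      | zero => simp
      | add p q hp hq => simp only [map_add, add_tmul, add_mul, hp, hq]
      | tmul s c => simp) a

theorem unshear_comp_shear : (unshear k H A).comp (shear k H A) = AlgHom.id k (A ⊗[k] H) := by
  apply Algebra.TensorProduct.ext
  · refine AlgHom.ext fun a => ?_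
    simp only [AlgHom.comp_apply, Algebra.TensorProduct.includeLeft_apply, shear, Algebra.TensorProduct.lift_tmul,
      map_one, mul_one, AlgHom.id_apply]
    exact unshear_coact a
  · refine AlgHom.ext fun h => ?_
    simp [shear, unshear, ← Algebra.TensorProduct.one_def, GLin.IsCoactAlg.coact_one]

theorem coact_lTensor_antipode (a : A) :
    letI := Comod.regular (k := k) (A := H)
    letI : GLin.IsCoactAlg k H H := ⟨Bialgebra.comul_one, Bialgebra.comul_mul⟩
    letI := tensorComod (k := k) (A := H) (S₀ := k) (S := A) (B := H) hA hH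
    Comod.coact (k := k) (A := H) ((HopfAlgebraStruct.antipode k (A := H)).lTensor A (Comod.coact (k := k) (A := H) a)) =
      ((HopfAlgebraStruct.antipode k (A := H)).lTensor A (Comod.coact (k := k) (A := H) a)) ⊗ₜ[k] (1 : H) := by
  letI := Comod.regular (k := k) (A := H)
  letI : GLin.IsCoactAlg k H H := ⟨Bialgebra.comul_one, Bialgebra.comul_mul⟩
  let D : A ⊗[k] H →ₐ[k] (A ⊗[k] H) ⊗[k] H :=
    (Algebra.TensorProduct.assoc k k k A H H).symm.toAlgHom.comp
      (Algebra.TensorProduct.map (AlgHom.id k A) (Bialgebra.comulAlgHom k H))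
  let Θ := Algebra.TensorProduct.map (shear k H A) (AlgHom.id k H)
  have key : Θ.comp (coactT hA hH) = D.comp (shear k H A) := by
    refine algHom_ext (fun b => ?_) fun h => ?_
    · simp only [AlgHom.comp_apply]
      have h1 : coactT hA hH (b ⊗ₜ[k] (1 : H)) = _ := coactT_incL hA hH b
      rw [h1]
      have hsb : ∀ b, shear k H A (b ⊗ₜ[k] (1 : H)) = Comod.coact (k := k) (A := H) b := fun b => by
        simp only [shear, Algebra.TensorProduct.lift_tmul, map_one, mul_one]; rfl
      rw [hsb]
      have hc := LinearMap.congr_fun (Comod.coassoc (k := k) (A := H) (V := A)) b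
      simp only [LinearMap.comp_apply, LinearEquiv.coe_coe] at hc
      apply (TensorProduct.assoc k A H H).injective
      have e1 : ∀ z : A ⊗[k] H, TensorProduct.assoc k A H H (Θ ((incL k A H (k := k)).toLinearMap.rTensor H z)) =
          TensorProduct.assoc k A H H ((Comod.coact (k := k) (A := H)).rTensor H z) := by
        intro z
        induction z with
        | zero => simp
        | add p q hp hq => simp only [map_add, hp, hq]
        | tmul s c =>
          simp only [Θ, LinearMap.rTensor_tmul, AlgHom.toLinearMap_apply, Algebra.TensorProduct.map_tmul,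
            AlgHom.id_apply, incL_apply, hsb]
      rw [e1, hc]
      simp only [D, AlgHom.comp_apply]
      exact ((TensorProduct.assoc k A H H).apply_symm_apply _).symm
    · simp only [AlgHom.comp_apply]
      have h1 : coactT hA hH ((1 : A) ⊗ₜ[k] h) = _ := coactT_incR hA hH h
      rw [h1]
      have hsh : shear k H A ((1 : A) ⊗ₜ[k] h) = 1 ⊗ₜ h := by simp [shear, GLin.IsCoactAlg.coact_one]
      rw [hsh]
      simp only [D, AlgHom.comp_apply, Algebra.TensorProduct.map_tmul, AlgHom.id_apply, Bialgebra.comulAlgHom_apply]
      show Θ ((incR k A H (k := k)).toLinearMap.rTensor H (CoalgebraStruct.comul (R := k) (A := H) h)) = _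
      generalize CoalgebraStruct.comul (R := k) (A := H) h = d
      induction d with
      | zero => simp
      | add p q hp hq => simp only [map_add, tmul_add, hp, hq]
      | tmul s c => simp [Θ, shear, GLin.IsCoactAlg.coact_one]
  have hinj : Function.Injective Θ :=
    Function.LeftInverse.injective (g := Algebra.TensorProduct.map (unshear k H A) (AlgHom.id k H)) fun x => by
      induction x with
      | zero => simp
      | add p q hp hq => simp only [map_add, hp, hq]
      | tmul y c =>
        simp only [Θ, Algebra.TensorProduct.map_tmul, AlgHom.id_apply]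
        rw [← AlgHom.comp_apply, unshear_comp_shear, AlgHom.id_apply]
  apply hinj
  show Θ.comp (coactT hA hH) _ = _
  rw [key]
  simp only [AlgHom.comp_apply, Θ, Algebra.TensorProduct.map_tmul, AlgHom.id_apply, shear_antipode]
  simp [D]
  rfl

end Antipode

/-- An equivariant Noetherian algebra is of finite type over its invariants. -/
theorem finiteType_invariants (hG : IsLinearlyReductive k H) [Algebra.FiniteType k H]
    {A : Type w} [CommRing A] [Algebra k A] [IsNoetherianRing A] [Comod k H A] [GLin.IsCoactAlg k H A] :
    Algebra.FiniteType ↥(GLin.invariants k H A) A := by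
  classical
  letI : Comod k H H := Comod.regular k H
  haveI : GLin.IsCoactAlg k H H := ⟨Bialgebra.comul_one, Bialgebra.comul_mul⟩
  have hkA : ∀ c, algebraMap k A c ∈ GLin.invariants k H A := fun c => (GLin.invariants k H A).algebraMap_mem c
  have hkH : ∀ c, algebraMap k H c ∈ GLin.invariants k H H := fun c => (GLin.invariants k H H).algebraMap_mem c
  letI := tensorComod (k := k) (A := H) (S₀ := k) (S := A) (B := H) hkA hkH
  haveI := tensor_isCoactAlg (k := k) (A := H) (S₀ := k) (S := A) (B := H) hkA hkH
  haveI : Algebra.FiniteType A (A ⊗[k] H) := Algebra.FiniteType.baseChange A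
  have hAC : Hoch.IsComodHom H (IsScalarTower.toAlgHom k A (A ⊗[k] H)).toLinearMap :=
    LinearMap.ext fun a => coactT_incL hkA hkH a
  obtain ⟨s, hs⟩ := exists_finset_invariants_eq hG hAC
  let ε : A ⊗[k] H →ₐ[k] A :=
    (Algebra.TensorProduct.rid k k A).toAlgHom.comp
      (Algebra.TensorProduct.map (AlgHom.id k A) (Bialgebra.counitAlgHom k H))
  refine ⟨s.image ε, eq_top_iff.2 fun a _ => ?_⟩
  let z : A ⊗[k] H := (HopfAlgebraStruct.antipode k (A := H)).lTensor A (Comod.coact (k := k) (A := H) a)
  have hz : z ∈ GLin.invariants k H (A ⊗[k] H) := coact_lTensor_antipode hkA hkH a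
  rw [hs] at hz
  have hεz : ε z = a := by
    have e : ∀ y : A ⊗[k] H, ε ((HopfAlgebraStruct.antipode k (A := H)).lTensor A y) =
        TensorProduct.rid k A ((CoalgebraStruct.counit (R := k) (A := H)).lTensor A y) := by
      intro y
      induction y with
      | zero => simp
      | add p q hp hq => simp only [map_add, hp, hq]
      | tmul b h => simp [ε]
    rw [e]
    have := LinearMap.congr_fun (Comod.counit_comp (k := k) (A := H) (V := A)) a
    simp only [LinearMap.comp_apply, LinearMap.flip_apply, TensorProduct.mk_apply] at this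
    rw [this]; simp
  rw [← hεz]
  clear_value z
  clear hεz
  induction hz using Algebra.adjoin_induction with
  | mem y hy =>
    rcases hy with ⟨b, hb, rfl⟩ | hy
    · have : ε (algebraMap A (A ⊗[k] H) b) = algebraMap ↥(GLin.invariants k H A) A ⟨b, hb⟩ := by
        simp [ε]
      rw [this]; exact Subalgebra.algebraMap_mem _ _
    · exact Algebra.subset_adjoin (Finset.mem_image_of_mem _ hy)
  | algebraMap r =>
    rw [AlgHom.commutes]
    exact Subalgebra.algebraMap_mem _ (⟨_, hkA r⟩ : ↥(GLin.invariants k H A))
  | add y y' _ _ hy hy' => rw [map_add]; exact add_mem hy hy'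
  | mul y y' _ _ hy hy' => rw [map_mul]; exact mul_mem hy hy'

end Result

end Groth.Agent.GoodFinType28
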