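import Groth.Agent.Lib.FinGenH28.Basic
import Mathlib.Logic.Small.Basic

/-!
Reynolds operators for comodules in an arbitrary universe.
-/

open TensorProduct HopfRep Groth.Agent.Comodule

universe u v w w'

namespace Groth.Agent.GoodFinType28

variable {k : Type u} [Field k] {A : Type v} [CommRing A] [HopfAlgebra k A]

/-- A finite dimensional comodule in any universe is semisimple over a linearly reductive group. -/
theorem isSemisimple_of_finite (hG : IsLinearlyReductive k A) (V : Type w) [AddCommGroup V] [Module k V]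
    [Comod k A V] (hV : Module.Finite k V) : IsSemisimpleComod k A V := by
  classical
  haveI : Nontrivial A := ⟨⟨0, 1, fun h => zero_ne_one (α := k) (by
    simpa using congrArg (Bialgebra.counitAlgHom k A) h)⟩⟩
  haveI : Small.{v} k := small_of_injective (algebraMap k A).injective
  haveI : Small.{v} V := small_map (Module.finBasis k V).equivFun.toEquiv
  let e : Shrink.{v} V ≃ₗ[k] V := Shrink.linearEquiv k V
  let c : Shrink.{v} V →ₗ[k] Shrink.{v} V ⊗[k] A :=
    (e.symm.toLinearMap.rTensor A) ∘ₗ Comod.coact (k := k) (A := A) ∘ₗ e.toLinearMap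
  have hce : ∀ x, e.toLinearMap.rTensor A (c x) = Comod.coact (k := k) (A := A) (e x) := fun x => by
    simp only [c, LinearMap.comp_apply, ← LinearMap.rTensor_comp_apply, LinearEquiv.comp_symm,
      LinearMap.rTensor_id_apply, LinearEquiv.coe_coe]
  letI : Comod k A (Shrink.{v} V) :=
    { coact := c
      coassoc := LinearMap.ext fun x => by
        apply (TensorProduct.congr e (LinearEquiv.refl k (A ⊗[k] A))).injective
        have h := LinearMap.congr_fun (Comod.coassoc (k := k) (A := A) (V := V)) (e x)
        simp only [LinearMap.comp_apply, LinearEquiv.coe_coe] at h ⊢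
        rw [← hce x] at h
        have e1 : ∀ z : Shrink.{v} V ⊗[k] A, TensorProduct.congr e (LinearEquiv.refl k (A ⊗[k] A))
            (TensorProduct.assoc k _ A A (c.rTensor A z)) =
            TensorProduct.assoc k V A A ((Comod.coact (k := k) (A := A)).rTensor A (e.toLinearMap.rTensor A z)) := by
          intro z
          induction z with
          | zero => simp
          | add p q hp hq => simp only [map_add, hp, hq]
          | tmul y a =>
            simp only [LinearMap.rTensor_tmul, LinearEquiv.coe_coe, ← hce]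
            generalize c y = d
            induction d with
            | zero => simp
            | add p q hp hq => simp only [map_add, add_tmul, hp, hq]
            | tmul s b => simp
        have e2 : ∀ z : Shrink.{v} V ⊗[k] A, TensorProduct.congr e (LinearEquiv.refl k (A ⊗[k] A))
            ((CoalgebraStruct.comul (R := k) (A := A)).lTensor _ z) =
            (CoalgebraStruct.comul (R := k) (A := A)).lTensor V (e.toLinearMap.rTensor A z) := by
          intro z
          induction z with
          | zero => simp
          | add p q hp hq => simp only [map_add, hp, hq]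
          | tmul y a => simp
        rw [e1, e2]
        exact h
      counit_comp := LinearMap.ext fun x => by
        apply (TensorProduct.congr e (LinearEquiv.refl k k)).injective
        have h := LinearMap.congr_fun (Comod.counit_comp (k := k) (A := A) (V := V)) (e x)
        simp only [LinearMap.comp_apply, LinearMap.flip_apply, TensorProduct.mk_apply] at h ⊢
        rw [← hce x] at h
        have e3 : ∀ z : Shrink.{v} V ⊗[k] A, TensorProduct.congr e (LinearEquiv.refl k k)
            ((CoalgebraStruct.counit (R := k) (A := A)).lTensor _ z) =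
            (CoalgebraStruct.counit (R := k) (A := A)).lTensor V (e.toLinearMap.rTensor A z) := by
          intro z
          induction z with
          | zero => simp
          | add p q hp hq => simp only [map_add, hp, hq]
          | tmul y a => simp
        rw [e3, h]
        simp }
  haveI : Module.Finite k (Shrink.{v} V) := Module.Finite.equiv e.symm
  have hcomm : Hoch.IsComodHom A e.toLinearMap := LinearMap.ext fun x => (hce x).symm
  have hcomm' : Hoch.IsComodHom A e.symm.toLinearMap := LinearMap.ext fun x => by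
    show c (e.symm x) = e.symm.toLinearMap.rTensor A (Comod.coact (k := k) (A := A) x)
    simp [c]
  intro W hW
  obtain ⟨N, hN, hc⟩ := hG (Shrink.{v} V) inferInstance (W.map e.symm.toLinearMap) (isSubcomod_map hcomm' hW)
  refine ⟨N.map e.toLinearMap, isSubcomod_map hcomm hN, ?_⟩
  refine ⟨Submodule.disjoint_def.2 fun x hx hx' => ?_, ?_⟩
  · obtain ⟨y, hy, rfl⟩ := hx'
    have h0 := Submodule.disjoint_def.1 hc.disjoint y ⟨e y, hx, e.symm_apply_apply y⟩ hy
    rw [h0, map_zero]
  · rw [codisjoint_iff, Submodule.eq_top_iff']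
    intro x
    obtain ⟨a, ⟨a', ha', rfl⟩, b, hb, hab⟩ := Submodule.mem_sup.1 (hc.sup_eq_top.ge (Submodule.mem_top (x := e.symm x)))
    refine Submodule.mem_sup.2 ⟨a', ha', e b, ⟨b, hb, rfl⟩, ?_⟩
    have h := congrArg e hab
    simpa using h

variable {V : Type w} [AddCommGroup V] [Module k V] [Comod k A V]
variable {W : Type w'} [AddCommGroup W] [Module k W] [Comod k A W]

/-- For a linearly reductive group every subcomodule of any comodule has a complement. -/
theorem exists_isCompl (hG : IsLinearlyReductive k A) (M : Submodule k V)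
    (hM : IsSubcomod (k := k) (A := A) M) :
    ∃ N : Submodule k V, IsSubcomod (k := k) (A := A) N ∧ IsCompl M N := by
  let S : Set (Submodule k V) := {N | IsSubcomod (k := k) (A := A) N ∧ Disjoint M N}
  obtain ⟨N, -, hN⟩ := zorn_le_nonempty₀ S (fun c hc hch y hy => by
    refine ⟨sSup c, ⟨?_, ?_⟩, fun z hz => le_sSup hz⟩
    · rw [sSup_eq_iSup']; exact isSubcomod_iSup _ fun i => (hc i.2).1
    · rw [Submodule.disjoint_def]
      intro x hxM hx
      obtain ⟨z, hz, hxz⟩ := (Submodule.mem_sSup_of_directed ⟨y, hy⟩ hch.directedOn).mp hx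
      exact Submodule.disjoint_def.mp (hc hz).2 x hxM hxz) ⊥ ⟨isSubcomod_bot, disjoint_bot_right⟩
  refine ⟨N, hN.prop.1, hN.prop.2, ?_⟩
  rw [codisjoint_iff, Submodule.eq_top_iff']
  intro v
  obtain ⟨P, hP, hPfin, hvP⟩ := exists_finite_subcomod (k := k) (A := A) v
  letI := subComod P hP
  obtain ⟨C, hC, hCc⟩ := isSemisimple_of_finite hG P hPfin ((M ⊔ N).comap P.subtype)
    (isSubcomod_comap_subtype hP (isSubcomod_sup hM hN.prop.1))
  have hC' : IsSubcomod (k := k) (A := A) (C.map P.subtype) :=
    isSubcomod_map (isComodHom_subtype P hP) hC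
  have hdisj : Disjoint M (N ⊔ C.map P.subtype) := by
    rw [Submodule.disjoint_def]
    intro x hxM hx
    obtain ⟨n, hn, c, hc, rfl⟩ := Submodule.mem_sup.mp hx
    obtain ⟨c, hcC, rfl⟩ := hc
    have hc0 : c ∈ (M ⊔ N).comap P.subtype := by
      show (c : V) ∈ M ⊔ N
      have : (c : V) = (n + c) - n := by abel
      rw [this]
      exact sub_mem (Submodule.mem_sup_left hxM) (Submodule.mem_sup_right hn)
    have := Submodule.disjoint_def.mp hCc.disjoint c hc0 hcC
    subst this
    simp only [map_zero, add_zero] at hxM ⊢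
    exact Submodule.disjoint_def.mp hN.prop.2 n hxM hn
  have hle := hN.le_of_ge ⟨isSubcomod_sup hN.prop.1 hC', hdisj⟩ le_sup_left
  obtain ⟨a, ha, c, hc, hac⟩ := Submodule.mem_sup.mp (hCc.codisjoint.eq_top ▸ Submodule.mem_top : (⟨v, hvP⟩ : P) ∈ _)
  rw [show v = (a : V) + (c : V) from (congrArg Subtype.val hac).symm]
  exact add_mem ha (Submodule.mem_sup_right (hle (Submodule.mem_sup_right ⟨c, hc, rfl⟩)))

lemma isComodHom_projection {p q : Submodule k V} (h : IsCompl p q)
    (hp : IsSubcomod (k := k) (A := A) p) (hq : IsSubcomod (k := k) (A := A) q) :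
    Hoch.IsComodHom A (p.projection q h) := by
  refine LinearMap.ext fun v => ?_
  obtain ⟨a, ha, b, hb, rfl⟩ := Submodule.mem_sup.mp (h.sup_eq_top ▸ Submodule.mem_top : v ∈ p ⊔ q)
  have e1 : p.projection q h (a + b) = a := by
    rw [map_add, Submodule.projection_apply_of_mem_left h ha,
      Submodule.projection_apply_of_mem_right h hb, add_zero]
  obtain ⟨x, hx⟩ := hp a ha
  obtain ⟨y, hy⟩ := hq b hb
  have e2 : p.projection q h ∘ₗ p.subtype = p.subtype :=
    LinearMap.ext fun z => Submodule.projection_apply_of_mem_left h z.2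
  have e3 : p.projection q h ∘ₗ q.subtype = 0 :=
    LinearMap.ext fun z => Submodule.projection_apply_of_mem_right h z.2
  simp only [LinearMap.comp_apply, e1]
  rw [map_add, map_add, ← hx, ← hy, ← LinearMap.rTensor_comp_apply, ← LinearMap.rTensor_comp_apply,
    e2, e3]
  simp

/-- A comodule map to a comodule of fixed vectors kills every subcomodule without fixed vectors. -/
theorem apply_eq_zero (hG : IsLinearlyReductive k A) {f : V →ₗ[k] W} (hf : Hoch.IsComodHom A f)
    (hfix : ∀ v, f v ∈ fixedPts k A W) {N : Submodule k V} (hN : IsSubcomod (k := k) (A := A) N)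
    (hN0 : Disjoint N (fixedPts k A V)) {x : V} (hx : x ∈ N) : f x = 0 := by
  have hK := isSubcomod_inf hN (isSubcomod_ker hf)
  obtain ⟨C, hC, hc⟩ := exists_isCompl hG _ hK
  have hC' := isSubcomod_inf hN hC
  obtain ⟨a, ha, b, hb, rfl⟩ := Submodule.mem_sup.mp
    (hc.sup_eq_top ▸ Submodule.mem_top : x ∈ N ⊓ LinearMap.ker f ⊔ C)
  have hbN : b ∈ N := by simpa using sub_mem hx ha.1
  have hfb : b ∈ fixedPts k A V := by
    obtain ⟨y, hy⟩ := hC' b ⟨hbN, hb⟩
    have hinj : Function.Injective (f.domRestrict (N ⊓ C)) := by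
      rw [← LinearMap.ker_eq_bot, eq_bot_iff]
      intro z hz
      exact Subtype.ext (Submodule.disjoint_def.mp hc.disjoint z.1 ⟨z.2.1, hz⟩ z.2.2)
    have : y = (⟨b, hbN, hb⟩ : (N ⊓ C : Submodule k V)) ⊗ₜ[k] (1 : A) := by
      apply Module.Flat.rTensor_preserves_injective_linearMap (M := A) _ hinj
      rw [show f.domRestrict (N ⊓ C) = f ∘ₗ (N ⊓ C).subtype from rfl, LinearMap.rTensor_comp_apply,
        hy, ← comodHom_apply hf]
      exact hfix b
    show Comod.coact (k := k) (A := A) b = b ⊗ₜ[k] (1 : A)
    rw [← hy, this]; rfl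
  have hb0 : b = 0 := Submodule.disjoint_def.mp hN0 b hbN hfb
  subst hb0
  simpa using LinearMap.mem_ker.mp ha.2

/-- A Reynolds operator in an arbitrary universe. -/
structure IsReyn (E : V →ₗ[k] V) : Prop where
  comodHom : Hoch.IsComodHom A E
  idem : E ∘ₗ E = E
  fix : ∀ x, E x = x ↔ x ∈ fixedPts k A V

lemma reynolds_mem {E : V →ₗ[k] V} (h : IsReyn (A := A) E) (x : V) : E x ∈ fixedPts k A V :=
  (h.fix _).mp (LinearMap.congr_fun h.idem x)

theorem exists_reynolds (hG : IsLinearlyReductive k A) : ∃ E : V →ₗ[k] V, IsReyn (A := A) E := by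
  obtain ⟨N, hN, hc⟩ := exists_isCompl hG _ (isSubcomod_fixedPts (k := k) (A := A) (V := V))
  refine ⟨Submodule.projection _ N hc, isComodHom_projection hc isSubcomod_fixedPts hN, ?_, fun x => ?_⟩
  · ext x
    exact Submodule.projection_apply_of_mem_left hc (Submodule.projection_apply_mem hc x)
  · constructor
    · intro h; rw [← h]; exact Submodule.projection_apply_mem hc x
    · intro h; exact Submodule.projection_apply_of_mem_left hc h

theorem comp_comm (hG : IsLinearlyReductive k A) {E : V →ₗ[k] V} {E' : W →ₗ[k] W}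
    (hE : IsReyn (A := A) E) (hE' : IsReyn (A := A) E') {f : V →ₗ[k] W}
    (hf : Hoch.IsComodHom A f) : E' ∘ₗ f = f ∘ₗ E := by
  refine LinearMap.ext fun x => ?_
  have hEf : Hoch.IsComodHom A (E' ∘ₗ f) := by
    refine LinearMap.ext fun v => ?_
    simp only [LinearMap.comp_apply]
    rw [comodHom_apply hE'.comodHom, comodHom_apply hf, LinearMap.rTensor_comp_apply]
  have hker : E' (f (x - E x)) = 0 := by
    refine apply_eq_zero hG hEf (fun v => reynolds_mem hE' _) (isSubcomod_ker hE.comodHom) ?_ ?_
    · rw [Submodule.disjoint_def]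
      intro v hv hv'
      rw [← (hE.fix v).mpr hv', LinearMap.mem_ker.mp hv]
    · rw [LinearMap.mem_ker, map_sub, ← LinearMap.comp_apply, hE.idem, sub_self]
  have hfix : E' (f (E x)) = f (E x) := by
    refine (hE'.fix _).mpr ?_
    show Comod.coact (k := k) (A := A) (f (E x)) = f (E x) ⊗ₜ[k] (1 : A)
    rw [comodHom_apply hf, show Comod.coact (k := k) (A := A) (E x) = _ from reynolds_mem hE x]
    rfl
  simp only [LinearMap.comp_apply]
  rw [map_sub, map_sub, sub_eq_zero] at hker
  rw [hker, hfix]

/-- The Reynolds operator preserves every subcomodule. -/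
theorem apply_mem (hG : IsLinearlyReductive k A) {E : V →ₗ[k] V}
    (hE : IsReyn (A := A) E) {N : Submodule k V} (hN : IsSubcomod (k := k) (A := A) N) {x : V}
    (hx : x ∈ N) : E x ∈ N := by
  letI := subComod N hN
  obtain ⟨E₀, hE₀⟩ := exists_reynolds (V := N) (A := A) hG
  have := LinearMap.congr_fun (comp_comm hG hE₀ hE (isComodHom_subtype N hN)) ⟨x, hx⟩
  rw [show E x = (E₀ ⟨x, hx⟩ : V) from this]
  exact (E₀ _).2

end Groth.Agent.GoodFinType28
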